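import Cfsg.Agent.H199.AbMon
import Cfsg.Agent.SigZero.CoThree

/-!
# The Monster: the 3-subgroups of order 27 of `C(w)`, `w` of order 11 (helper692, row M of S2443)

`C(w) / ⟨w⟩ ≅ M12` has no abelian subgroup of order 27.
-/

set_option autoImplicit false
set_option maxRecDepth 100000

namespace Cfsg.Agent.H692.Mon

open Cfsg Cfsg.Agent.MonsterX Cfsg.Agent.MonsterX.InstData Cfsg.Agent.MonsterX.MainPack Cfsg.Agent.MonsterU
open Cfsg.Agent.MonsterP Cfsg.Agent.MonsterN Cfsg.Agent.LThreeMB
open Cfsg.Agent.MonsterX.MainBasic Cfsg.Agent.MonsterX.MainSimple Cfsg.Agent.MonsterX.Model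
open Cfsg.Agent.MonsterU.Lam2 Cfsg.Agent.MonsterU.TwoCls
open Cfsg.Agent.BpSpor.MBigModel Cfsg.Agent.H199.NSmMon
open Cfsg.Spor (Co1)
open Subgroup (centralizer zpowers mem_centralizer_singleton_iff)

/-- **Twelve points**: an abelian 3-group whose elements other than 1 fix at most four of twelve points has order less
than 27 (the proof of `SigZero.CoThreeM12.perm_bound` without the exponent). -/
theorem perm_bound {P Ω : Type*} [Group P] [Finite P] [Fintype Ω] [DecidableEq Ω] [MulAction P Ω] (D : Finset Ω)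
    (h12 : D.card = 12) (hD : ∀ g : P, ∀ p ∈ D, g • p ∈ D)
    (hcomm : ∀ a b : P, a * b = b * a) (hpg : IsPGroup 3 P)
    (h4 : ∀ g : P, g ≠ 1 → (D.filter (fun p => g • p = p)).card ≤ 4) : Nat.card P < 27 := by
  classical
  by_contra hcon
  have h27 : 27 ≤ Nat.card P := by omega
  -- a nontrivial subgroup fixes at most four points
  have hsub : ∀ (Q : Subgroup P) (F : Finset Ω), Q ≠ ⊥ → F ⊆ D → (∀ p ∈ F, ∀ g ∈ Q, g • p = p) → F.card ≤ 4 := by
    intro Q F hQ hFD hF
    obtain ⟨g, hg⟩ := Subgroup.ne_bot_iff_exists_ne_one.1 hQ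
    have hg1 : (g : P) ≠ 1 := fun h => hg (Subtype.ext h)
    refine le_trans (Finset.card_le_card ?_) (h4 (g : P) hg1)
    intro p hp
    exact Finset.mem_filter.2 ⟨hFD hp, hF p hp g g.2⟩
  have hnt : ∀ Q : Subgroup P, Q.index < 27 → Q ≠ ⊥ := by
    rintro Q hQ rfl
    rw [Subgroup.index_bot] at hQ
    omega
  let orb : Ω → Finset Ω := fun p => (MulAction.orbit P p).toFinset
  have horb : ∀ p, p ∈ D → orb p ⊆ D := by
    intro p hp q hq
    obtain ⟨g, rfl⟩ := MulAction.mem_orbit_iff.1 (Set.mem_toFinset.1 hq)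
    exact hD g p hp
  have hidx : ∀ p, (MulAction.stabilizer P p).index = (orb p).card := by
    intro p
    rw [MulAction.index_stabilizer, Set.ncard_eq_toFinset_card']
  have hfix : ∀ p q, q ∈ orb p → ∀ g ∈ MulAction.stabilizer P p, g • q = q := by
    intro p q hq g hg
    obtain ⟨k, rfl⟩ := MulAction.mem_orbit_iff.1 (Set.mem_toFinset.1 hq)
    rw [← mul_smul, hcomm, mul_smul, MulAction.mem_stabilizer_iff.1 hg]
  have h4' : ∀ p ∈ D, (orb p).card ≤ 4 := by
    intro p hp
    refine hsub (MulAction.stabilizer P p) (orb p) (hnt _ ?_) (horb p hp) (fun q hq g hg => hfix p q hq g hg)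
    rw [hidx]
    exact lt_of_le_of_lt (Finset.card_le_card (horb p hp)) (by omega)
  have h13 : ∀ p ∈ D, (orb p).card = 1 ∨ (orb p).card = 3 := by
    intro p hp
    have : Fact (Nat.Prime 3) := ⟨Nat.prime_three⟩
    obtain ⟨n, hn⟩ := hpg.exists_card_eq
    have h1 : (orb p).card ∣ 3 ^ n := by
      rw [← hidx, ← hn]
      exact Subgroup.index_dvd_card _
    obtain ⟨k, _, hk⟩ := (Nat.dvd_prime_pow Nat.prime_three).1 h1
    have h2 : (orb p).card ≤ 4 := h4' p hp
    rw [hk] at h2 ⊢
    rcases k with _ | _ | k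
    · exact Or.inl rfl
    · exact Or.inr rfl
    · exfalso
      have h3 : 3 ^ 2 ≤ 3 ^ (k + 2) := Nat.pow_le_pow_right (by norm_num) (by omega)
      have h5 : k + 1 + 1 = k + 2 := rfl
      rw [h5] at h2
      exact absurd (h3.trans h2) (by norm_num)
  have hself : ∀ p, p ∈ orb p := fun p => Set.mem_toFinset.2 (MulAction.mem_orbit_self p)
  have hone : ∀ p, (orb p).card = 1 → ∀ g : P, g • p = p := by
    intro p hp g
    obtain ⟨a, ha⟩ := Finset.card_eq_one.1 hp
    have h1 : p = a := Finset.mem_singleton.1 (ha ▸ hself p)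
    have h2 : g • p = a := Finset.mem_singleton.1 (ha ▸ Set.mem_toFinset.2 (MulAction.mem_orbit p g))
    rw [h2, h1]
  have hne : (⊤ : Subgroup P) ≠ ⊥ := by
    apply hnt
    rw [Subgroup.index_top]
    omega
  by_cases hex : ∃ p ∈ D, (orb p).card = 3
  · obtain ⟨p, hp, hp3⟩ := hex
    have h9 : (D \ orb p).card = 9 := by
      rw [Finset.card_sdiff_of_subset (horb p hp), h12, hp3]
    have h := hsub ⊤ (D \ orb p) hne Finset.sdiff_subset ?_
    · omega
    · intro q hq g _
      rw [Finset.mem_sdiff] at hq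
      rcases h13 q hq.1 with h1 | h1
      · exact hone q h1 g
      · exfalso
        have hdis : Disjoint (orb p) (orb q) := by
          rw [Finset.disjoint_left]
          intro r hr hr'
          apply hq.2
          obtain ⟨a, ha⟩ := MulAction.mem_orbit_iff.1 (Set.mem_toFinset.1 hr)
          obtain ⟨b, hb⟩ := MulAction.mem_orbit_iff.1 (Set.mem_toFinset.1 hr')
          refine Set.mem_toFinset.2 (MulAction.mem_orbit_iff.2 ⟨b⁻¹ * a, ?_⟩)
          rw [mul_smul, ha, ← hb, inv_smul_smul]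
        have h2 := hsub (MulAction.stabilizer P p ⊓ MulAction.stabilizer P q) (orb p ∪ orb q) (hnt _ ?_)
          (Finset.union_subset (horb p hp) (horb q hq.1)) ?_
        · rw [Finset.card_union_of_disjoint hdis] at h2
          omega
        · refine lt_of_le_of_lt (Subgroup.index_inf_le) ?_
          rw [hidx, hidx, hp3, h1]
          norm_num
        · intro r hr g hg
          rcases Finset.mem_union.1 hr with h3 | h3
          · exact hfix p r h3 g hg.1
          · exact hfix q r h3 g hg.2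
  · have h := hsub ⊤ D hne (Finset.Subset.refl _) ?_
    · omega
    · intro q hq g _
      rcases h13 q hq with h1 | h1
      · exact hone q h1 g
      · exact absurd ⟨q, hq, h1⟩ hex

/-- **`M12` has no abelian subgroup of order 27.** -/
theorem no_abel (B : Subgroup Spor.M12) (hcomm : ∀ a ∈ B, ∀ b ∈ B, a * b = b * a) : Nat.card B ≠ 27 := by
  classical
  intro h27
  have h3 : Fact (Nat.Prime 3) := ⟨Nat.prime_three⟩
  have hp : IsPGroup 3 B := IsPGroup.of_card (n := 3) (by rw [h27]; norm_num)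
  let _ : MulAction B GolayPt := MulAction.compHom GolayPt ((Spor.M12.subtype).comp B.subtype)
  have h := perm_bound (P := B) (Ω := GolayPt) SigZero.CoThreeB.D SigZero.CoThreeB.card_D
    (fun g p hp => SigZero.CoThreeM12.map_D (g : Spor.M12) hp)
    (fun a b => Subtype.ext (hcomm a a.2 b b.2)) hp
    (fun g hg => SigZero.CoThreeM12.fix_le (fun h => hg (Subtype.ext h)))
  omega

/-- a homomorphism from `C(w)` to `M12` whose kernel has exponent 11 -/
theorem exists_hom {w : MG} (hw : orderOf w = 11) (hz : w * zz = zz * w) :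
    ∃ f : ↥(centralizer ({w} : Set MG)) →* Spor.M12, ∀ k, f k = 1 → k ^ 11 = 1 := by
  have := finite
  have := simple
  obtain ⟨x₀, hx₀, hpx⟩ := H800.ME.Final.exists_x
  have hxo : orderOf (x₀ : MG) = 11 := by rw [Subgroup.orderOf_coe, hx₀]
  obtain ⟨e⟩ := H800.ME.Twelve.iso chart hx₀ hpx (H800.ME.Final.dvd_XX hxo)
  let x' : ↥(centralizer ({zz} : Set MG)) := ⟨w, mem_centralizer_singleton_iff.2 hz⟩
  have hx' : orderOf x' = 11 := by rw [← Subgroup.orderOf_coe]; exact hw
  obtain ⟨k, hk⟩ := CpAutON.Gen.conj_into (p := 11) (BpSpor.MBigModel.not_sq (Or.inl rfl) orderOf_zz) hx' hx₀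
  have : Finite ↥(centralizer ({zz} : Set MG)) := inferInstance
  obtain ⟨i, hi⟩ := mem_powers_iff_mem_zpowers.2 hk
  obtain ⟨e'⟩ := MFive.exists_cent_equiv (p := 11) (by norm_num) (x := (x' : MG)) (y := (x₀ : MG))
    (by rw [Subgroup.orderOf_coe, hx']) hxo (k := (k : MG)) (i := i) (by
      have h1 := congrArg Subtype.val hi
      exact h1.symm)
  refine ⟨e.toMonoidHom.comp ((QuotientGroup.mk' (Zx (x₀ : MG))).comp e'.symm.toMonoidHom), ?_⟩
  intro y hy
  have h1 : QuotientGroup.mk' (Zx (x₀ : MG)) (e'.symm y) = 1 := by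
    apply e.injective
    rw [map_one]
    exact hy
  have h2 : e'.symm y ∈ Zx (x₀ : MG) := (QuotientGroup.eq_one_iff _).1 h1
  have h3 : (e'.symm y) ^ 11 = 1 := by
    obtain ⟨j, hj⟩ := Subgroup.mem_zpowers_iff.1 h2
    rw [← hj]
    apply Subtype.ext
    show ((((self (x₀ : MG)) ^ j) ^ 11 : ↥(centralizer ({(x₀ : MG)} : Set MG))) : MG) = 1
    have h4 : (self (x₀ : MG)) ^ 11 = 1 := by
      apply Subtype.ext
      show ((self (x₀ : MG) : ↥(centralizer ({(x₀ : MG)} : Set MG))) : MG) ^ 11 = 1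
      rw [show ((self (x₀ : MG) : ↥(centralizer ({(x₀ : MG)} : Set MG))) : MG) = x₀ from rfl, ← hxo, pow_orderOf_eq_one]
    rw [← zpow_natCast, ← zpow_mul, mul_comm, zpow_mul, zpow_natCast, h4, one_zpow]
    rfl
  apply e'.symm.injective
  rw [map_pow, h3, map_one]

/-- **The subgroups of order 27 of `C(w)`, `w` of order 11, are not abelian.** -/
theorem l11 {w : MG} (hw : orderOf w = 11) (hz : w * zz = zz * w) {B : Subgroup MG}
    (hB : B ≤ centralizer ({w} : Set MG)) (h27 : Nat.card B = 27) : ∃ a ∈ B, ∃ b ∈ B, a * b ≠ b * a := by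
  by_contra hcon
  push Not at hcon
  obtain ⟨f, hf⟩ := exists_hom hw hz
  let g : B →* Spor.M12 := f.comp (Subgroup.inclusion hB)
  have hg : Function.Injective g := by
    rw [injective_iff_map_eq_one]
    intro b hb
    have h1 := hf _ hb
    have h2 : b ^ 11 = 1 := Subtype.ext (congrArg (fun t : ↥(centralizer ({w} : Set MG)) => (t : MG)) h1)
    have h3 : b ^ 27 = 1 := by rw [← h27]; exact pow_card_eq_one'
    have h4 : orderOf b ∣ 11 := orderOf_dvd_of_pow_eq_one h2
    have h5 : orderOf b ∣ 27 := orderOf_dvd_of_pow_eq_one h3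
    have h6 : orderOf b = 1 := Nat.eq_one_of_dvd_coprimes (by norm_num) h4 h5
    exact orderOf_eq_one_iff.1 h6
  apply no_abel g.range
  · rintro _ ⟨a, rfl⟩ _ ⟨b, rfl⟩
    rw [← map_mul, ← map_mul]
    congr 1
    exact Subtype.ext (hcon a a.2 b b.2)
  · rw [← h27]
    exact (Nat.card_congr (MonoidHom.ofInjective hg).toEquiv).symm

end Cfsg.Agent.H692.Mon
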